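import Cfsg.Agent.VanishClass.Main
import Cfsg.Agent.LocalStructure.PClosed

/-!
# One order of vanishing `p`-singular elements
-/

set_option autoImplicit false
set_option linter.unusedSectionVars false
set_option linter.style.haveILetI false

namespace CfsgLib.VanishOrder69

open CfsgLib.Characters CfsgLib.VanishClass
open scoped commutatorElement

universe u

variable {H : Type u} [Group H] [Finite H] {p : ℕ} [hp : Fact p.Prime]

theorem eq_one_of_mem {F : Subgroup H} (hFp : ¬ p ∣ Nat.card F) {x : H}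
    (hx : LocalStructure.IsPEl p x) (hxF : x ∈ F) : x = 1 := by
  obtain ⟨k, hk⟩ := hx
  rw [← orderOf_eq_one_iff]
  refine Nat.eq_one_of_dvd_coprimes
    (Nat.Coprime.pow_left k (hp.out.coprime_iff_not_dvd.2 hFp)) (orderOf_dvd_of_pow_eq_one hk) ?_
  rw [← Subgroup.orderOf_mk x hxF]
  exact orderOf_dvd_natCard _

theorem dvd_orderOf_of_isPEl {x : H} (hx : LocalStructure.IsPEl p x) (hx1 : x ≠ 1) :
    p ∣ orderOf x := by
  obtain ⟨k, hk⟩ := hx
  obtain ⟨j, -, hj⟩ := (Nat.dvd_prime_pow hp.out).1 (orderOf_dvd_of_pow_eq_one hk)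
  rcases j with _ | j
  · exact absurd (orderOf_eq_one_iff.1 (by rw [hj, pow_zero])) hx1
  · rw [hj]; exact dvd_pow_self p (Nat.succ_ne_zero j)

theorem not_dvd_card_fitting (hcore : Cfsg.pCore p H = ⊥) :
    ¬ p ∣ Nat.card (Cfsg.fittingSubgroup H) := by
  haveI : Group.IsNilpotent (Cfsg.fittingSubgroup H) := Solvable.fittingSubgroup_isNilpotent
  haveI : (Cfsg.fittingSubgroup H).Normal := Solvable.fittingSubgroup_normal
  intro hd
  obtain ⟨P⟩ : Nonempty (Sylow p (Cfsg.fittingSubgroup H)) := inferInstance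
  have hPn : (P : Subgroup (Cfsg.fittingSubgroup H)).Normal := inferInstance
  haveI : (P : Subgroup (Cfsg.fittingSubgroup H)).Characteristic := P.characteristic_of_normal hPn
  have h1 : (P : Subgroup (Cfsg.fittingSubgroup H)).map (Cfsg.fittingSubgroup H).subtype ≤
      Cfsg.pCore p H := Solvable.le_pCore (P.isPGroup'.map _)
  rw [hcore, le_bot_iff,
    Subgroup.map_eq_bot_iff_of_injective _ (Cfsg.fittingSubgroup H).subtype_injective] at h1
  exact P.ne_bot_of_dvd_card hd h1

/-- Above the Fitting subgroup an abelian normal `p`-subgroup consists of vanishing elements. -/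
theorem van_layer (hs : Group.IsSolvable H) (hcore : Cfsg.pCore p H = ⊥)
    (F : Subgroup H) [F.Normal] (hF : F = Cfsg.fittingSubgroup H)
    (R : Subgroup (H ⧸ F)) [hR : R.Normal] (hRp : IsPGroup p R)
    (hRc : ∀ a ∈ R, ∀ b ∈ R, a * b = b * a) (g : H) (hg : QuotientGroup.mk' F g ∈ R)
    (hg1 : QuotientGroup.mk' F g ≠ 1) : Van g := by
  classical
  haveI := Fintype.ofFinite H
  haveI := hs
  subst hF
  haveI : Group.IsNilpotent (Cfsg.fittingSubgroup H) := Solvable.fittingSubgroup_isNilpotent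
  set F := Cfsg.fittingSubgroup H
  set π := QuotientGroup.mk' F with hπ
  haveI : (R.comap π).Normal := hR.comap π
  obtain ⟨χ, hχ, h0⟩ := regular_vanishing (p := p) F (R.comap π)
    (fun x hx => by
      show π x ∈ R
      rw [hπ, QuotientGroup.mk'_apply, (QuotientGroup.eq_one_iff x).2 hx]
      exact one_mem R)
    (not_dvd_card_fitting hcore)
    (Subgroup.commutator_le.2 fun a ha b hb => by
      rw [← QuotientGroup.eq_one_iff]
      show π ⁅a, b⁆ = 1
      rw [map_commutatorElement, commutatorElement_eq_one_iff_mul_comm]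
      exact hRc _ ha _ hb)
    (fun q hq => by
      obtain ⟨k, hk⟩ := hRp ⟨π q, hq⟩
      refine ⟨k, (QuotientGroup.eq_one_iff _).1 ?_⟩
      simpa [hπ] using congrArg Subtype.val hk)
    (inf_le_right.trans Solvable.centralizer_fittingSubgroup_le)
  exact ⟨χ, hχ, h0 g hg fun hgF => hg1 ((QuotientGroup.eq_one_iff g).2 hgF)⟩

/-- The centre of the `p`-core, as an abelian normal `p`-subgroup. -/
theorem exists_abelian {X : Type u} [Group X] [Finite X] (hQ : Cfsg.pCore p X ≠ ⊥) :
    ∃ Z : Subgroup X, Z.Normal ∧ IsPGroup p Z ∧ Z ≠ ⊥ ∧ Z ≤ Cfsg.pCore p X ∧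
      ∀ a ∈ Cfsg.pCore p X, ∀ z ∈ Z, a * z = z * a := by
  set Q := Cfsg.pCore p X
  haveI : Q.Normal := Solvable.pCore_normal p
  have hQp : IsPGroup p Q := Solvable.isPGroup_pCore p
  haveI : Nontrivial Q := (Subgroup.nontrivial_iff_ne_bot Q).2 hQ
  haveI := hQp.center_nontrivial
  refine ⟨(Subgroup.center Q).map Q.subtype, inferInstance,
    hQp.to_le (Subgroup.map_subtype_le _), ?_, Subgroup.map_subtype_le _, ?_⟩
  · rw [Ne, Subgroup.map_eq_bot_iff_of_injective _ Q.subtype_injective]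
    exact (Subgroup.nontrivial_iff_ne_bot _).1 inferInstance
  · rintro a ha _ ⟨z, hz, rfl⟩
    exact congrArg Subtype.val (Subgroup.mem_center_iff.1 hz ⟨a, ha⟩)

/-- A group with trivial `p`-core and order divisible by `p` has an element of order `p` whose
non-trivial powers vanish. -/
theorem exists_van : ∀ (c : ℕ) (H : Type u) [Group H] [Finite H], Nat.card H = c →
    Group.IsSolvable H → Cfsg.pCore p H = ⊥ → p ∣ Nat.card H →
    ∃ h : H, orderOf h = p ∧ ∀ i : ℕ, h ^ i ≠ 1 → Van (h ^ i) := by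
  intro c
  induction c using Nat.strong_induction_on with
  | _ c ih =>
  intro H _ _ hc hs hcore hdvd
  haveI := hs
  haveI : Nontrivial H := Finite.one_lt_card_iff_nontrivial.1
    (lt_of_lt_of_le hp.out.one_lt (Nat.le_of_dvd Nat.card_pos hdvd))
  set F := Cfsg.fittingSubgroup H with hFdef
  haveI : F.Normal := Solvable.fittingSubgroup_normal
  have hFne : F ≠ ⊥ := Solvable.fittingSubgroup_ne_bot
  have hFp : ¬ p ∣ Nat.card F := not_dvd_card_fitting hcore
  set π := QuotientGroup.mk' F with hπ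
  have hπs := QuotientGroup.mk'_surjective F
  haveI : Group.IsSolvable (H ⧸ F) := Group.isSolvable_of_surjective hπs
  have hlt : Nat.card (H ⧸ F) < c := by
    rw [← hc, Subgroup.card_eq_card_quotient_mul_card_subgroup F]
    exact lt_mul_of_one_lt_right Nat.card_pos ((Subgroup.one_lt_card_iff_ne_bot F).2 hFne)
  have hd' : p ∣ Nat.card (H ⧸ F) := by
    rw [Subgroup.card_eq_card_quotient_mul_card_subgroup F] at hdvd
    exact (hp.out.dvd_mul.1 hdvd).resolve_right hFp
  -- lift a `p`-subgroup above which everything vanishes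
  have lift : ∀ R : Subgroup (H ⧸ F), p ∣ Nat.card R →
      (∀ g : H, π g ∈ R → π g ≠ 1 → Van g) →
      ∃ h : H, orderOf h = p ∧ ∀ i : ℕ, h ^ i ≠ 1 → Van (h ^ i) := by
    intro R hR hv
    obtain ⟨x, hx⟩ := exists_prime_orderOf_dvd_card' (G := R.comap π) p
      (hR.trans (Subgroup.card_dvd_of_surjective (π.subgroupComap R)
        (MonoidHom.subgroupComap_surjective_of_surjective π R hπs)))
    refine ⟨x, by rwa [Subgroup.orderOf_coe], fun i hi => hv _ ?_ fun e => hi ?_⟩
    · rw [map_pow]; exact pow_mem x.2 i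
    · refine eq_one_of_mem hFp ⟨1, ?_⟩ ((QuotientGroup.eq_one_iff _).1 e)
      rw [pow_one, pow_right_comm, ← hx, ← Subgroup.orderOf_coe, pow_orderOf_eq_one, one_pow]
  by_cases hQ : Cfsg.pCore p (H ⧸ F) = ⊥
  · obtain ⟨h, hho, hhv⟩ := ih _ hlt (H ⧸ F) rfl inferInstance hQ hd'
    refine lift (Subgroup.zpowers h) (by rw [Nat.card_zpowers, hho]) fun g hg hg1 => ?_
    obtain ⟨i, hi⟩ := mem_powers_iff_mem_zpowers.2 hg
    have hi' : h ^ i = π g := hi
    refine Van.lift π hπs ?_
    rw [← hi'] at hg1 ⊢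
    exact hhv i hg1
  · obtain ⟨Z, hZn, hZp, hZne, hZQ, hZc⟩ := exists_abelian (p := p) hQ
    haveI := hZn
    refine lift Z ?_ (van_layer hs hcore F hFdef Z hZp fun a ha b hb => hZc a (hZQ ha) b hb)
    obtain ⟨j, hj⟩ := IsPGroup.iff_card.1 hZp
    rcases j with _ | j
    · exact absurd (Subgroup.eq_bot_of_card_eq Z (by rw [hj, pow_zero])) hZne
    · rw [hj]; exact dvd_pow_self p (Nat.succ_ne_zero j)

variable {G : Type u} [Group G] [Finite G] {b : ℕ}

/-- Every preimage of a vanishing `p`-singular element has order `b`. -/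
def Hyp (p b : ℕ) (f : G →* H) : Prop :=
  ∀ g : G, p ∣ orderOf (f g) → Van (f g) → orderOf g = b

theorem Hyp.comp {H' : Type u} [Group H'] [Finite H'] {f : G →* H} (h : Hyp p b f) (q : H →* H')
    (hq : Function.Surjective q) : Hyp p b (q.comp f) :=
  fun g hg hv => h g (sing_lift q hg) (hv.lift q hq)

/-- Vanishing `p`-elements have prime order and commute with no vanishing `p'`-part. -/
theorem Hyp.pEl {f : G →* H} (h : Hyp p b f) (hf : Function.Surjective f) {x : H}
    (hx : LocalStructure.IsPEl p x) (hx1 : x ≠ 1) (hv : Van x) :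
    (x ^ p ≠ 1 → ¬ Van (x ^ p)) ∧
      ∀ y : H, Commute x y → ¬ p ∣ orderOf y → Van (x * y) → y = 1 := by
  obtain ⟨g, -, hgp, rfl⟩ := LocalStructure.exists_pEl_lift f (K := ⊤)
    (by rw [← MonoidHom.range_eq_map]; exact hf x) hx
  have hb := h g (dvd_orderOf_of_isPEl hx hx1) hv
  have hg1 : g ≠ 1 := fun e => hx1 (by rw [e, map_one])
  have hpg := dvd_orderOf_of_isPEl hgp hg1
  refine ⟨fun hp1 hvp => ?_, fun y hc hy hvy => ?_⟩
  · rw [← map_pow] at hp1 hvp
    have h2 := h (g ^ p) (dvd_orderOf_of_isPEl (by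
      obtain ⟨k, hk⟩ := hx
      exact ⟨k, by rw [map_pow, pow_right_comm, hk, one_pow]⟩) hp1) hvp
    rw [orderOf_pow_of_dvd hp.out.ne_zero hpg, ← hb] at h2
    exact (Nat.div_lt_self (orderOf_pos g) hp.out.one_lt).ne h2
  · obtain ⟨g', hg'⟩ := hf (f g * y)
    have hcop : (orderOf (f g)).Coprime (orderOf y) := by
      obtain ⟨k, hk⟩ := hx
      exact (Nat.Coprime.pow_left k (hp.out.coprime_iff_not_dvd.2 hy)).coprime_dvd_left
        (orderOf_dvd_of_pow_eq_one hk)
    have ho : orderOf (f g * y) = orderOf (f g) * orderOf y :=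
      hc.orderOf_mul_eq_mul_orderOf_of_coprime hcop
    have h2 := h g' (by rw [hg', ho]; exact (dvd_orderOf_of_isPEl hx hx1).mul_right _)
      (by rw [hg']; exact hvy)
    have h3 : orderOf y ∣ orderOf g := by
      rw [hb, ← h2]
      refine (Dvd.intro_left (orderOf (f g)) ho.symm).trans ?_
      rw [← hg']
      exact orderOf_map_dvd f g'
    obtain ⟨k, hk⟩ := hgp
    exact orderOf_eq_one_iff.1 (Nat.eq_one_of_dvd_coprimes
      (Nat.Coprime.pow_left k (hp.out.coprime_iff_not_dvd.2 hy))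
      (h3.trans (orderOf_dvd_of_pow_eq_one hk)) dvd_rfl)

/-- An abelian `p`-group of the quotient above which everything vanishes has order at most `p`. -/
theorem small {f : G →* H} (h : Hyp p b f) (hf : Function.Surjective f)
    (F : Subgroup H) [F.Normal] (hFne : F ≠ ⊥) (hFp : ¬ p ∣ Nat.card F)
    (R : Subgroup (H ⧸ F)) (hRp : IsPGroup p R) (hRc : ∀ a ∈ R, ∀ c ∈ R, a * c = c * a)
    (hv : ∀ g : H, QuotientGroup.mk' F g ∈ R → QuotientGroup.mk' F g ≠ 1 → Van g) :
    Nat.card R ≤ p := by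
  set π := QuotientGroup.mk' F with hπ
  set Rh := R.comap π with hRh
  obtain ⟨P⟩ : Nonempty (Sylow p Rh) := inferInstance
  set P' := (P : Subgroup Rh).map Rh.subtype with hP'
  have hP'R : P' ≤ Rh := Subgroup.map_subtype_le _
  have hP'p : IsPGroup p P' := P.isPGroup'.map _
  have hPF : ∀ x ∈ P', x ∈ F → x = 1 := fun x hx =>
    eq_one_of_mem hFp (LocalStructure.isPEl_of_mem hP'p hx)
  have hcomm : ∀ a ∈ P', ∀ c ∈ P', a * c = c * a := fun a ha c hc => by
    refine commutatorElement_eq_one_iff_mul_comm.1 (hPF _ ?_ ((QuotientGroup.eq_one_iff _).1 ?_))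
    · rw [commutatorElement_def]
      exact mul_mem (mul_mem (mul_mem ha hc) (inv_mem ha)) (inv_mem hc)
    · show π ⁅a, c⁆ = 1
      rw [map_commutatorElement, commutatorElement_eq_one_iff_mul_comm]
      exact hRc _ (hP'R ha) _ (hP'R hc)
  haveI : IsMulCommutative P' := ⟨⟨fun a c => Subtype.ext (hcomm a a.2 c c.2)⟩⟩
  have hπ1 : ∀ x ∈ P', x ≠ 1 → π x ≠ 1 := fun x hx hx1 e =>
    hx1 (hPF x hx ((QuotientGroup.eq_one_iff x).1 e))
  have hvan : ∀ x ∈ P', x ≠ 1 → Van x := fun x hx hx1 => hv x (hP'R hx) (hπ1 x hx hx1)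
  have hfpf : ∀ x ∈ P', x ≠ 1 → F ⊓ Subgroup.centralizer {x} = ⊥ := by
    intro x hx hx1
    refine (Subgroup.eq_bot_iff_forall _).2 fun y hy => ?_
    refine (h.pEl hf (LocalStructure.isPEl_of_mem hP'p hx) hx1 (hvan x hx hx1)).2 y
      (Subgroup.mem_centralizer_singleton_iff.1 hy.2).symm ?_ ?_
    · intro hd
      refine hFp (hd.trans ?_)
      rw [← Subgroup.orderOf_mk y hy.1]
      exact orderOf_dvd_natCard _
    · have hxy : π (x * y) = π x := by
        rw [map_mul, show π y = 1 from (QuotientGroup.eq_one_iff y).2 hy.1, mul_one]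
      exact hv _ (by rw [hxy]; exact hP'R hx) (by rw [hxy]; exact hπ1 x hx hx1)
  haveI : IsCyclic P' := Solvable.isCyclic_of_fpf_comm hFne hfpf le_rfl
  obtain ⟨gen, hgen⟩ := IsCyclic.exists_generator (α := P')
  have hexp : (gen : H) ^ p = 1 := by
    by_cases h1 : (gen : H) = 1
    · rw [h1, one_pow]
    by_contra hp1
    exact (h.pEl hf (LocalStructure.isPEl_of_mem hP'p gen.2) h1 (hvan _ gen.2 h1)).1 hp1
      (hvan _ (pow_mem gen.2 p) hp1)
  have hPle : Nat.card P' ≤ p := by
    rw [← orderOf_eq_card_of_forall_mem_zpowers hgen]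
    exact Nat.le_of_dvd hp.out.pos
      (orderOf_dvd_of_pow_eq_one (Subtype.ext (by simpa using hexp)))
  obtain ⟨j, hj⟩ := IsPGroup.iff_card.1 hRp
  have h1 : Nat.card R ∣ Nat.card Rh :=
    Subgroup.card_dvd_of_surjective (π.subgroupComap R)
      (MonoidHom.subgroupComap_surjective_of_surjective π R (QuotientGroup.mk'_surjective F))
  rw [hj, ← Subgroup.card_mul_index (P : Subgroup Rh)] at h1
  refine (Nat.le_of_dvd Nat.card_pos ?_).trans hPle
  rw [hj, hP', Subgroup.card_map_of_injective Rh.subtype_injective]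
  exact (Nat.Coprime.pow_left j
    (hp.out.coprime_iff_not_dvd.2 P.not_dvd_index)).dvd_of_dvd_mul_right h1

/-- One order of vanishing `p`-singular elements bounds the Sylow subgroup. -/
theorem aux : ∀ (c : ℕ) (H : Type u) [Group H] [Finite H] (f : G →* H), Nat.card H = c →
    Function.Surjective f → Hyp p b f → Group.IsSolvable H → Cfsg.pCore p H = ⊥ →
    ¬ p ^ 2 ∣ Nat.card H := by
  intro c
  induction c using Nat.strong_induction_on with
  | _ c ih =>
  intro H _ _ f hc hf hyp hs hcore hd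
  classical
  haveI := Fintype.ofFinite H
  haveI := hs
  haveI : Nontrivial H := Finite.one_lt_card_iff_nontrivial.1
    (lt_of_lt_of_le (Nat.one_lt_pow two_ne_zero hp.out.one_lt) (Nat.le_of_dvd Nat.card_pos hd))
  set F := Cfsg.fittingSubgroup H with hFdef
  haveI : F.Normal := Solvable.fittingSubgroup_normal
  have hFne : F ≠ ⊥ := Solvable.fittingSubgroup_ne_bot
  have hFp : ¬ p ∣ Nat.card F := not_dvd_card_fitting hcore
  set π := QuotientGroup.mk' F with hπ
  have hπs := QuotientGroup.mk'_surjective F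
  haveI : Group.IsSolvable (H ⧸ F) := Group.isSolvable_of_surjective hπs
  have hd1 : p ^ 2 ∣ Nat.card (H ⧸ F) := by
    rw [Subgroup.card_eq_card_quotient_mul_card_subgroup F] at hd
    exact (Nat.Coprime.pow_left 2 (hp.out.coprime_iff_not_dvd.2 hFp)).dvd_of_dvd_mul_right hd
  by_cases hQ : Cfsg.pCore p (H ⧸ F) = ⊥
  · refine ih _ ?_ (H ⧸ F) (π.comp f) rfl (hπs.comp hf) (hyp.comp π hπs) inferInstance hQ hd1
    rw [← hc, Subgroup.card_eq_card_quotient_mul_card_subgroup F]
    exact lt_mul_of_one_lt_right Nat.card_pos ((Subgroup.one_lt_card_iff_ne_bot F).2 hFne)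
  set Q := Cfsg.pCore p (H ⧸ F) with hQdef
  haveI hQn : Q.Normal := Solvable.pCore_normal p
  have hQp : IsPGroup p Q := Solvable.isPGroup_pCore p
  haveI := hQp.isNilpotent
  have key : ∀ R : Subgroup (H ⧸ F), R.Normal → R ≤ Q → (∀ a ∈ R, ∀ b ∈ R, a * b = b * a) →
      ∀ g : H, π g ∈ R → π g ≠ 1 → Van g := fun R hR hRQ hRc =>
    @van_layer H _ _ p hp hs hcore F _ hFdef R hR (hQp.to_le hRQ) hRc
  have hcard : ∀ R : Subgroup (H ⧸ F), R.Normal → R ≤ Q → R ≠ ⊥ →
      (∀ a ∈ R, ∀ b ∈ R, a * b = b * a) → Nat.card R = p := by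
    intro R hR hRQ hRne hRc
    refine le_antisymm (small hyp hf F hFne hFp R (hQp.to_le hRQ) hRc (key R hR hRQ hRc)) ?_
    obtain ⟨j, hj⟩ := IsPGroup.iff_card.1 (hQp.to_le hRQ)
    rcases j with _ | j
    · exact absurd (Subgroup.eq_bot_of_card_eq R (by rw [hj, pow_zero])) hRne
    · rw [hj]; exact Nat.le_self_pow (Nat.succ_ne_zero j) p
  obtain ⟨Z, hZn, -, hZne, hZQ, hZc⟩ := exists_abelian (p := p) hQ
  haveI := hZn
  have hZp : Nat.card Z = p := hcard Z hZn hZQ hZne fun a ha b hb => hZc a (hZQ ha) b hb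
  have hQab : ∀ a ∈ Q, ∀ b ∈ Q, a * b = b * a := by
    by_contra hno
    set πZ := QuotientGroup.mk' Z with hπZ
    haveI : (Q.map πZ).Normal := hQn.map πZ (QuotientGroup.mk'_surjective Z)
    set U := Q ⊓ (Subgroup.centralizer ((Q.map πZ : Subgroup ((H ⧸ F) ⧸ Z)) : Set ((H ⧸ F) ⧸ Z))).comap πZ
      with hUdef
    haveI hUn : U.Normal := by rw [hUdef]; infer_instance
    have hUQ : U ≤ Q := inf_le_left
    have hZU : Z ≤ U := fun z hz => ⟨hZQ hz, by
      refine Subgroup.mem_comap.2 ?_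
      rw [hπZ, QuotientGroup.mk'_apply, (QuotientGroup.eq_one_iff z).2 hz]
      exact one_mem _⟩
    have hUc : ∀ a ∈ U, ∀ b ∈ Q, ⁅a, b⁆ ∈ Z := fun a ha b hb => by
      rw [← QuotientGroup.eq_one_iff]
      show πZ ⁅a, b⁆ = 1
      rw [map_commutatorElement, commutatorElement_eq_one_iff_mul_comm]
      exact (Subgroup.mem_centralizer_iff.1 ha.2 _ (Subgroup.mem_map_of_mem πZ hb)).symm
    obtain ⟨u, huU, huZ⟩ : ∃ u ∈ U, u ∉ Z := by
      have hQZne : Q.map πZ ≠ ⊥ := by
        rw [Ne, Subgroup.map_eq_bot_iff, hπZ, QuotientGroup.ker_mk']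
        exact fun hle => hno fun a ha b hb => hZc a ha b (hle hb)
      haveI : Nontrivial (Q.map πZ) := (Subgroup.nontrivial_iff_ne_bot _).2 hQZne
      haveI := (hQp.map πZ).center_nontrivial
      obtain ⟨w, hw⟩ := exists_ne (1 : Subgroup.center (Q.map πZ))
      obtain ⟨q, hq, hqw⟩ := (w : Q.map πZ).2
      refine ⟨q, ⟨hq, Subgroup.mem_centralizer_iff.2 fun t ht => ?_⟩, fun hqZ => hw ?_⟩
      · rw [hqw]
        exact congrArg Subtype.val (Subgroup.mem_center_iff.1 w.2 ⟨t, ht⟩)
      · refine Subtype.ext (Subtype.ext ?_)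
        show ((w : Q.map πZ) : (H ⧸ F) ⧸ Z) = 1
        rw [← hqw, hπZ, QuotientGroup.mk'_apply, (QuotientGroup.eq_one_iff q).2 hqZ]
    haveI := Fintype.ofFinite U
    have hUp : IsPGroup p U := hQp.to_le hUQ
    haveI := hUp.isNilpotent
    have hUna : commutator U ≠ ⊥ := by
      intro e
      have hUab : ∀ a ∈ U, ∀ b ∈ U, a * b = b * a := fun a ha b hb => by
        have hmem : ⁅(⟨a, ha⟩ : U), (⟨b, hb⟩ : U)⁆ ∈ commutator U :=
          Subgroup.commutator_mem_commutator (Subgroup.mem_top _) (Subgroup.mem_top _)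
        rw [e, Subgroup.mem_bot, commutatorElement_eq_one_iff_mul_comm] at hmem
        exact congrArg Subtype.val hmem
      have h1 := hcard U hUn hUQ (fun e' => hZne (le_bot_iff.1 (e' ▸ hZU))) hUab
      exact huZ (Subgroup.eq_of_le_of_card_ge hZU (by rw [h1, hZp]) ▸ huU)
    set CU := (Subgroup.center U).map U.subtype with hCU
    haveI hCUn : CU.Normal := inferInstance
    have hCUU : CU ≤ U := Subgroup.map_subtype_le _
    have hCUQ : CU ≤ Q := hCUU.trans hUQ
    have hCUall : ∀ a ∈ CU, ∀ c ∈ U, a * c = c * a := by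
      rintro _ ⟨a, ha, rfl⟩ c hcU
      exact (congrArg Subtype.val (Subgroup.mem_center_iff.1 ha ⟨c, hcU⟩)).symm
    have hCUc : ∀ a ∈ CU, ∀ b ∈ CU, a * b = b * a := fun a ha c hc' => hCUall a ha c (hCUU hc')
    haveI : Nontrivial U := (Subgroup.nontrivial_iff_ne_bot U).2 fun e =>
      hZne (le_bot_iff.1 (e ▸ hZU))
    haveI := hUp.center_nontrivial
    have hCUne : CU ≠ ⊥ := by
      rw [hCU, Ne, Subgroup.map_eq_bot_iff_of_injective _ U.subtype_injective]
      exact (Subgroup.nontrivial_iff_ne_bot _).1 inferInstance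
    have hCUp : Nat.card (Subgroup.center U) = p := by
      rw [← hcard CU hCUn hCUQ hCUne hCUc, hCU,
        Subgroup.card_map_of_injective U.subtype_injective]
    obtain ⟨θ, hθ, hθ0⟩ := center_vanishing hUp hUna (by
      rw [commutator_def, Subgroup.commutator_le]
      intro a _ b _
      rw [Subgroup.mem_center_iff]
      intro t
      refine Subtype.ext (hZc t (hUQ t.2) _ ?_)
      exact hUc a a.2 b (hUQ b.2)) hCUp
    haveI := Fintype.ofFinite (H ⧸ F)
    obtain ⟨χ, hχ, hχ0⟩ := exists_vanishing U CU hθ fun n hn => hθ0 n fun hc' =>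
      hn ⟨n, hc', rfl⟩
    obtain ⟨v, hv, hvC⟩ : ∃ v ∈ U, v ∉ CU := by
      by_contra hall
      push Not at hall
      refine hUna (le_bot_iff.1 ?_)
      rw [commutator_def, Subgroup.commutator_le]
      exact fun a _ b _ => Subgroup.mem_bot.2 (commutatorElement_eq_one_iff_mul_comm.2
        (Subtype.ext (hCUc a (hall a a.2) b (hall b b.2))))
    -- an abelian subgroup of `U` larger than `CU`
    set S : Subgroup (H ⧸ F) := Subgroup.closure ((CU : Set (H ⧸ F)) ∪ {v}) with hS
    haveI hSc : IsMulCommutative S := Subgroup.isMulCommutative_closure (by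
      rintro a (ha | rfl) c (hc' | rfl)
      · exact hCUc a ha c hc'
      · exact hCUall a ha c hv
      · exact (hCUall c hc' a hv).symm
      · rfl)
    have hSU : S ≤ U := (Subgroup.closure_le U).2
      (Set.union_subset (fun a ha => hCUU ha) (Set.singleton_subset_iff.2 hv))
    have hSle : Nat.card S ≤ p := by
      refine small hyp hf F hFne hFp S (hUp.to_le hSU)
        (fun a ha c hc' => congrArg Subtype.val (hSc.is_comm.comm ⟨a, ha⟩ ⟨c, hc'⟩))
        fun g hg hg1 => ?_
      by_cases hgC : π g ∈ CU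
      · exact key CU hCUn hCUQ hCUc g hgC hg1
      · exact Van.lift π hπs ⟨χ, hχ, hχ0 _ (hSU hg) hgC⟩
    refine hvC (Subgroup.eq_of_le_of_card_ge
      (fun a ha => Subgroup.subset_closure (Or.inl ha) : CU ≤ S) ?_ ▸
      Subgroup.subset_closure (Or.inr rfl))
    rwa [hcard CU hCUn hCUQ hCUne hCUc]
  have hQcard : Nat.card Q = p := hcard Q hQn le_rfl hQ hQab
  set σ := QuotientGroup.mk' Q with hσ
  have hσs := QuotientGroup.mk'_surjective Q
  haveI : Group.IsSolvable ((H ⧸ F) ⧸ Q) := Group.isSolvable_of_surjective hσs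
  have hd2 : p ∣ Nat.card ((H ⧸ F) ⧸ Q) := by
    rw [Subgroup.card_eq_card_quotient_mul_card_subgroup Q, hQcard, sq] at hd1
    exact Nat.dvd_of_mul_dvd_mul_right hp.out.pos hd1
  have hcore' : Cfsg.pCore p ((H ⧸ F) ⧸ Q) = ⊥ := by
    rw [LocalStructure.pCore_quotient hQp, ← hQdef, Subgroup.map_eq_bot_iff, QuotientGroup.ker_mk']
  obtain ⟨h, hho, hhv⟩ := exists_van (p := p) _ ((H ⧸ F) ⧸ Q) rfl inferInstance hcore' hd2
  set R := (Subgroup.zpowers h).comap σ with hRdef
  have hRcard : Nat.card R = p ^ 2 := by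
    have h1 := Subgroup.card_mul_index R
    rw [hRdef, Subgroup.index_comap_of_surjective _ hσs, ← hRdef,
      Subgroup.card_eq_card_quotient_mul_card_subgroup Q,
      ← Subgroup.card_mul_index (Subgroup.zpowers h), Nat.card_zpowers, hho, hQcard,
      mul_right_comm p _ p] at h1
    rw [sq]
    exact mul_right_cancel₀ Subgroup.index_ne_zero_of_finite h1
  have hRc := IsPGroup.isMulCommutative_of_card_eq_prime_sq hRcard
  have hle := small hyp hf F hFne hFp R (IsPGroup.of_card hRcard)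
    (fun a ha c hc' => congrArg Subtype.val (hRc.is_comm.comm ⟨a, ha⟩ ⟨c, hc'⟩))
    fun g hg hg1 => by
      by_cases hgQ : π g ∈ Q
      · exact key Q hQn le_rfl hQab g hgQ hg1
      · obtain ⟨i, hi⟩ := mem_powers_iff_mem_zpowers.2 (Subgroup.mem_comap.1 hg)
        refine Van.lift π hπs (Van.lift σ hσs ?_)
        have hi' : h ^ i = σ (π g) := hi
        rw [← hi']
        refine hhv i fun e => hgQ ((QuotientGroup.eq_one_iff _).1 ?_)
        rw [← QuotientGroup.mk'_apply, ← hσ, ← hi', e]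
  rw [hRcard, sq] at hle
  exact (lt_mul_of_one_lt_right hp.out.pos hp.out.one_lt).not_ge hle

end CfsgLib.VanishOrder69
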